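import Cfsg.Agent.H289.KKL.CoverH
import Cfsg.Agent.H592.HarStar
import Cfsg.Agent.H595.Triple
import Cfsg.Agent.Blocks.ClassSum
import Cfsg.Agent.Blocks.Osima
import Cfsg.Agent.Blocks.DefectCard
import Cfsg.Agent.Blocks.Elementary
import Cfsg.Agent.Characters.MonomialVec

/-!
# Fong's second reduction for a character of defect zero (helper658)

`N` normal in `G`, `θ ∈ Irr(N)` invariant of `p`-defect zero, `C : Cover p N θ E` (helper592): a central
extension `π : E → G` with kernel of order prime to `p`, an extension `ψ` of `θ` to `E`. Put `H = E ⧸ s(N)`.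

* `over_of_mem` : the members of a block `B` of `G` all lie over `θ` if one does;
* `cc_eq` : `ω_χ(π x) = u_x ω_η(x̄)` for `χ ∘ π = ψ η`, `u_x` local and independent of `χ`;
* `star_block` : the set of characters of `H` corresponding to `B` is a block;
* `defectClass_star` : defect classes correspond;
* `factorization_centralizer` : the `p`-parts of the centralizers agree.
-/

set_option autoImplicit false
set_option linter.unusedSectionVars false
set_option linter.style.haveILetI false

open Cfsg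
open scoped ComplexConjugate

namespace Cfsg.Agent.H658.KKL.FongTwo

open Cfsg.Agent Cfsg.Agent.Characters.Core Cfsg.Agent.H592.Har

universe u

/-! ### Group theory of the cover -/

/-- for `g` in a finite group with a surjection `f` onto `Q`: the index of the centralizer of `f x` -/
theorem index_comap_centralizer {E Q : Type*} [Group E] [Group Q] [Finite E] (f : E →* Q)
    (hf : Function.Surjective f) (x : E) :
    ((Subgroup.centralizer ({f x} : Set Q)).comap f).index = (Subgroup.centralizer ({f x} : Set Q)).index :=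
  Subgroup.index_comap_of_surjective _ hf

theorem centralizer_le_comap {E Q : Type*} [Group E] [Group Q] (f : E →* Q) (x : E) :
    Subgroup.centralizer ({x} : Set E) ≤ (Subgroup.centralizer ({f x} : Set Q)).comap f := by
  intro c hc
  rw [Subgroup.mem_comap, Subgroup.mem_centralizer_singleton_iff, ← map_mul, ← map_mul,
    Subgroup.mem_centralizer_singleton_iff.1 hc]

/-- a central kernel: the index of the centralizer in the preimage divides the order of the kernel -/
theorem relIndex_dvd_of_central {E Q : Type*} [Group E] [Group Q] [Finite E] (f : E →* Q)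
    (hZ : f.ker ≤ Subgroup.center E) (x : E) :
    (Subgroup.centralizer ({x} : Set E)).relIndex ((Subgroup.centralizer ({f x} : Set Q)).comap f) ∣
      Nat.card f.ker := by
  set A := (Subgroup.centralizer ({f x} : Set Q)).comap f with hA
  have hmem : ∀ a : A, (a : E) * x * (a : E)⁻¹ * x⁻¹ ∈ f.ker := by
    intro a
    have h1 := Subgroup.mem_centralizer_singleton_iff.1 (Subgroup.mem_comap.1 a.2)
    rw [MonoidHom.mem_ker, map_mul, map_mul, map_mul, map_inv, map_inv, h1]
    group
  let h : A →* f.ker :=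
    { toFun := fun a => ⟨(a : E) * x * (a : E)⁻¹ * x⁻¹, hmem a⟩
      map_one' := by
        apply Subtype.ext
        simp
      map_mul' := by
        intro a b
        apply Subtype.ext
        change (a : E) * b * x * ((a : E) * b)⁻¹ * x⁻¹ =
          (a : E) * x * (a : E)⁻¹ * x⁻¹ * ((b : E) * x * (b : E)⁻¹ * x⁻¹)
        have h1 := Subgroup.mem_center_iff.1 (hZ (hmem b))
        have h2 := h1 (a : E)
        have h3 := h1 ((a : E) * x * (a : E)⁻¹ * x⁻¹)
        calc (a : E) * b * x * ((a : E) * b)⁻¹ * x⁻¹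
            = (a : E) * ((b : E) * x * (b : E)⁻¹ * x⁻¹) * x * (a : E)⁻¹ * x⁻¹ := by group
          _ = ((b : E) * x * (b : E)⁻¹ * x⁻¹) * (a : E) * x * (a : E)⁻¹ * x⁻¹ := by rw [h2]
          _ = ((b : E) * x * (b : E)⁻¹ * x⁻¹) * ((a : E) * x * (a : E)⁻¹ * x⁻¹) := by group
          _ = _ := h3.symm }
  have hker : h.ker = (Subgroup.centralizer ({x} : Set E)).subgroupOf A := by
    ext a
    rw [MonoidHom.mem_ker, Subgroup.mem_subgroupOf, Subgroup.mem_centralizer_singleton_iff]
    constructor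
    · intro h1
      have h2 : (a : E) * x * (a : E)⁻¹ * x⁻¹ = 1 := congrArg Subtype.val h1
      have h3 := mul_inv_eq_one.1 h2
      rw [mul_inv_eq_iff_eq_mul] at h3
      exact h3
    · intro h1
      apply Subtype.ext
      change (a : E) * x * (a : E)⁻¹ * x⁻¹ = 1
      rw [h1]
      group
  have h1 : (Subgroup.centralizer ({x} : Set E)).relIndex A = h.ker.index := by
    rw [hker]
    rfl
  rw [h1, Subgroup.index_ker]
  exact Subgroup.card_subgroup_dvd_card _

section cov

variable {p : ℕ} {G : Type u} [Group G] [Finite G] {N : Subgroup G} [hN : N.Normal] {θ : N → ℂ}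
  {E : Type u} [Group E] [Finite E] (C : Cover p N θ E)

/-- the extension restricted to a subgroup containing `s(N)` -/
theorem isIrr_res_of_le (hθ : IsIrrCharacter N θ) (T : Subgroup E) (hT : C.s.range ≤ T) :
    IsIrrCharacter T (fun t : T => C.ψ t) := by
  have h1 := C.isIrr_res hθ
  have h2 : IsCharacter T (fun t : T => C.ψ t) := by
    obtain ⟨n, ρ, hρ⟩ := isIrr_isCharacter C.irr
    exact ⟨n, ρ.comp T.subtype, by rw [← hρ]; rfl⟩
  refine Cfsg.Agent.H595.Triple.isIrr_of_comp (Subgroup.inclusion hT) h2 ?_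
  exact h1

/-- the preimage in `E` of the centralizer of the image of `x` in `H` -/
def T (x : E) : Subgroup E :=
  (Subgroup.centralizer ({(QuotientGroup.mk' C.s.range) x} : Set (E ⧸ C.s.range))).comap
    (QuotientGroup.mk' C.s.range)

theorem range_le_T (x : E) : C.s.range ≤ T C x := by
  intro y hy
  have h1 : (QuotientGroup.mk' C.s.range) y = 1 := (QuotientGroup.eq_one_iff y).2 hy
  refine Subgroup.mem_comap.2 ?_
  rw [h1]
  exact one_mem _

theorem mem_T_self (x : E) : x ∈ T C x := by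
  refine Subgroup.mem_comap.2 ?_
  rw [Subgroup.mem_centralizer_singleton_iff]

theorem index_T (x : E) : (T C x).index =
    (Subgroup.centralizer ({(x : E ⧸ C.s.range)} : Set (E ⧸ C.s.range))).index :=
  index_comap_centralizer (QuotientGroup.mk' C.s.range) (QuotientGroup.mk'_surjective _) x

/-- the centralizer in `T` -/
theorem index_centralizer_T (x : E) :
    (Subgroup.centralizer ({(⟨x, mem_T_self C x⟩ : T C x)} : Set (T C x))).index =
      (Subgroup.centralizer ({x} : Set E)).relIndex (T C x) := by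
  have : Subgroup.centralizer ({(⟨x, mem_T_self C x⟩ : T C x)} : Set (T C x)) =
      (Subgroup.centralizer ({x} : Set E)).subgroupOf (T C x) := by
    ext t
    rw [Subgroup.mem_subgroupOf, Subgroup.mem_centralizer_singleton_iff, Subgroup.mem_centralizer_singleton_iff]
    exact ⟨fun h => congrArg Subtype.val h, fun h => Subtype.ext h⟩
  rw [this]
  rfl

theorem index_mul (x : E) : (T C x).index * (Subgroup.centralizer ({x} : Set E)).relIndex (T C x) =
    (Subgroup.centralizer ({x} : Set E)).index := by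
  rw [mul_comm]
  exact Subgroup.relIndex_mul_index (centralizer_le_comap (QuotientGroup.mk' C.s.range) x)

/-- the preimage in `E` of the centralizer of `π x` -/
def A (x : E) : Subgroup E := (Subgroup.centralizer ({C.π x} : Set G)).comap C.π

theorem index_A (x : E) : (A C x).index = (Subgroup.centralizer ({C.π x} : Set G)).index :=
  index_comap_centralizer C.π C.surj x

theorem index_mulA (x : E) : (A C x).index * (Subgroup.centralizer ({x} : Set E)).relIndex (A C x) =
    (Subgroup.centralizer ({x} : Set E)).index := by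
  rw [mul_comm]
  exact Subgroup.relIndex_mul_index (centralizer_le_comap C.π x)

theorem not_dvd_relIndexA (x : E) : ¬ p ∣ (Subgroup.centralizer ({x} : Set E)).relIndex (A C x) :=
  fun h => C.ker_p (h.trans (relIndex_dvd_of_central C.π C.ker_le x))

/-- the factor `u_x` -/
noncomputable def uf (x : E) : ℂ :=
  ((Subgroup.centralizer ({x} : Set E)).relIndex (A C x) : ℂ)⁻¹ *
    (((Subgroup.centralizer ({x} : Set E)).relIndex (T C x) : ℂ) * C.ψ x / C.ψ 1)

theorem relIndexA_ne_zero (x : E) : (Subgroup.centralizer ({x} : Set E)).relIndex (A C x) ≠ 0 :=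
  (Subgroup.index_ne_zero_of_finite (H := (Subgroup.centralizer ({x} : Set E)).subgroupOf (A C x)))

theorem memLocalRing_T {M : Ideal AlgInt} [M.IsPrime] (hθ : IsIrrCharacter N θ) (x : E) :
    MemLocalRing M (((Subgroup.centralizer ({x} : Set E)).relIndex (T C x) : ℂ) * C.ψ x / C.ψ 1) := by
  have h1 := Blocks.Elementary.memLocalRing_centralChar (M := M)
    (isIrr_res_of_le C hθ (T C x) (range_le_T C x)) ⟨x, mem_T_self C x⟩
  unfold centralChar at h1
  rw [index_centralizer_T] at h1
  exact h1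

theorem memLocalRing_uf {M : Ideal AlgInt} (hM : IsPModular p M) (hθ : IsIrrCharacter N θ) (x : E) :
    MemLocalRing M (uf C x) := by
  have := Blocks.Local.isPrime_of_isPModular hM
  exact Blocks.Local.memLocalRing_mul (Blocks.Local.memLocalRing_inv_natCast hM (not_dvd_relIndexA C x))
    (memLocalRing_T C hθ x)

/-- **The central characters** of `χ` and of the corresponding character `η` of `H`. -/
theorem cc_eq {χ : G → ℂ} {η : E ⧸ C.s.range → ℂ}
    (h : ∀ x : E, χ (C.π x) = C.ψ x * η x) (x : E) :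
    centralChar χ (C.π x) = uf C x * centralChar η (x : E ⧸ C.s.range) := by
  have h1 := h 1
  rw [map_one, QuotientGroup.mk_one] at h1
  have hψ := isIrr_apply_one_ne_zero C.irr
  have e1 := index_mul C x
  have e2 := index_mulA C x
  rw [index_T] at e1
  rw [index_A] at e2
  have hA : ((Subgroup.centralizer ({x} : Set E)).relIndex (A C x) : ℂ) ≠ 0 := by
    exact_mod_cast relIndexA_ne_zero C x
  have e3 : ((Subgroup.centralizer ({C.π x} : Set G)).index : ℂ) *
      ((Subgroup.centralizer ({x} : Set E)).relIndex (A C x) : ℂ) =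
      ((Subgroup.centralizer ({(x : E ⧸ C.s.range)} : Set (E ⧸ C.s.range))).index : ℂ) *
      ((Subgroup.centralizer ({x} : Set E)).relIndex (T C x) : ℂ) := by
    rw [← e1] at e2
    exact_mod_cast e2
  unfold centralChar uf
  rw [h1, h x]
  have e4 : ((Subgroup.centralizer ({C.π x} : Set G)).index : ℂ) =
      ((Subgroup.centralizer ({(x : E ⧸ C.s.range)} : Set (E ⧸ C.s.range))).index : ℂ) *
      ((Subgroup.centralizer ({x} : Set E)).relIndex (T C x) : ℂ) *
      ((Subgroup.centralizer ({x} : Set E)).relIndex (A C x) : ℂ)⁻¹ := by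
    rw [← e3, mul_assoc, mul_inv_cancel₀ hA, mul_one]
  rw [e4]
  simp only [div_eq_mul_inv, mul_inv]
  ring

/-- same block of `H` implies same block of `G` -/
theorem sameBlock_of_star {M : Ideal AlgInt} (hM : IsPModular p M) (hθ : IsIrrCharacter N θ)
    {χ χ' : G → ℂ} {η η' : E ⧸ C.s.range → ℂ}
    (h : ∀ x : E, χ (C.π x) = C.ψ x * η x) (h' : ∀ x : E, χ' (C.π x) = C.ψ x * η' x)
    (hb : SameBlock M η η') : SameBlock M χ χ' := by
  have := Blocks.Local.isPrime_of_isPModular hM
  intro g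
  obtain ⟨x, rfl⟩ := C.surj g
  rw [cc_eq C h x, cc_eq C h' x, ← mul_sub]
  exact Blocks.Local.memLocalIdeal_mul_left (memLocalRing_uf C hM hθ x) (hb x)


/-! ### From blocks of `G` to blocks of `H` -/

theorem sum_mk [Fintype E] [Fintype (E ⧸ C.s.range)] (F : E ⧸ C.s.range → ℂ) :
    ∑ w : E, F (w : E ⧸ C.s.range) = (Nat.card C.s.range : ℂ) * ∑ q : E ⧸ C.s.range, F q := by
  rw [Cfsg.Agent.Characters.MonomialVec.sum_eq_card_mul_sum_quotient C.s.range
    (fun w => F (w : E ⧸ C.s.range)) (fun x h => by rw [QuotientGroup.mk_mul_of_mem _ h.2])]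
  congr 1
  refine Finset.sum_congr rfl fun q _ => ?_
  rw [QuotientGroup.out_eq']

/-- the mean of `|ψ|²` on cosets -/
theorem sum_normSq [Fintype E] (hθ : IsIrrCharacter N θ) (F : E ⧸ C.s.range → ℂ) :
    ∑ w : E, F (w : E ⧸ C.s.range) * (C.ψ w * conj (C.ψ w)) = ∑ w : E, F (w : E ⧸ C.s.range) := by
  classical
  have := Fintype.ofFinite C.s.range
  have hc : (Nat.card C.s.range : ℂ) ≠ 0 := by exact_mod_cast (Nat.card_pos (α := C.s.range)).ne'
  have h1 : ∀ w : E, ∑ n : C.s.range, (C.ψ ((n : E) * w) * conj (C.ψ ((n : E) * w))) =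
      (Nat.card C.s.range : ℂ) := by
    intro w
    have h2 := CharactersDeep.CosetAverage.cosetAverage_self C.s.range C.ψ C.irr (C.isIrr_res hθ) w
    rw [inv_mul_eq_iff_eq_mul₀ hc, mul_one] at h2
    exact h2
  have h3 : ∑ n : C.s.range, ∑ w : E, F (w : E ⧸ C.s.range) * (C.ψ w * conj (C.ψ w)) =
      ∑ w : E, F (w : E ⧸ C.s.range) * ∑ n : C.s.range, (C.ψ ((n : E) * w) * conj (C.ψ ((n : E) * w))) := by
    simp_rw [Finset.mul_sum]
    rw [Finset.sum_comm]
    rw [Finset.sum_comm]
    rw [Finset.sum_comm (s := Finset.univ) (t := Finset.univ)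
      (f := fun (w : E) (n : C.s.range) => F (w : E ⧸ C.s.range) * (C.ψ ((n : E) * w) * conj (C.ψ ((n : E) * w))))]
    refine Finset.sum_congr rfl fun n _ => ?_
    rw [← Equiv.sum_comp (Equiv.mulLeft (n : E))]
    refine Finset.sum_congr rfl fun w _ => ?_
    rw [Equiv.coe_mulLeft]
    have : (((n : E) * w : E) : E ⧸ C.s.range) = w := by
      rw [QuotientGroup.mk_mul, (QuotientGroup.eq_one_iff (n : E)).2 n.2, one_mul]
    rw [this]
  simp_rw [h1] at h3
  rw [Finset.sum_const, Finset.card_univ, nsmul_eq_mul, ← Nat.card_eq_fintype_card, ← Finset.sum_mul,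
    mul_comm _ (Nat.card C.s.range : ℂ)] at h3
  exact mul_left_cancel₀ hc h3

open Classical in
/-- the class function on `G` computing `ω_η(h)` -/
noncomputable def cf [Fintype E] (h : E ⧸ C.s.range) (g : G) : ℂ :=
  (C.ψ 1 / (Nat.card C.s.range : ℂ)) *
    ∑ w : E, if C.π w = g ∧ IsConj h (w : E ⧸ C.s.range) then conj (C.ψ w) else 0

theorem isClassFunction_cf [Fintype E] (h : E ⧸ C.s.range) : IsClassFunction G (cf C h) := by
  classical
  intro g x
  obtain ⟨y, rfl⟩ := C.surj x
  unfold cf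
  congr 1
  refine Fintype.sum_equiv (MulAut.conj y⁻¹).toEquiv _ _ fun w => ?_
  have e1 : (MulAut.conj y⁻¹).toEquiv w = y⁻¹ * w * y := by
    change y⁻¹ * w * y⁻¹⁻¹ = _
    rw [inv_inv]
  rw [e1]
  have e2 : C.ψ (y⁻¹ * w * y) = C.ψ w := by
    have := isIrr_isClassFunction C.irr w y⁻¹
    rw [inv_inv] at this
    exact this
  have e3 : C.π (y⁻¹ * w * y) = g ↔ C.π w = C.π y * g * (C.π y)⁻¹ := by
    rw [map_mul, map_mul, map_inv]
    constructor
    · rintro rfl
      group
    · intro h1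
      rw [h1]
      group
  have e4 : IsConj h ((y⁻¹ * w * y : E) : E ⧸ C.s.range) ↔ IsConj h (w : E ⧸ C.s.range) := by
    have h5 : IsConj ((y⁻¹ * w * y : E) : E ⧸ C.s.range) (w : E ⧸ C.s.range) := by
      refine isConj_iff.2 ⟨(y : E ⧸ C.s.range), ?_⟩
      rw [← QuotientGroup.mk_inv, ← QuotientGroup.mk_mul, ← QuotientGroup.mk_mul]
      congr 1
      group
    exact ⟨fun h6 => h6.trans h5, fun h6 => h6.trans h5.symm⟩
  rw [e2]
  refine if_congr ?_ rfl rfl
  rw [e3, e4]

theorem memLocalRing_cf {M : Ideal AlgInt} [M.IsPrime] [Fintype E]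
    (h0 : MemLocalRing M (C.ψ 1 / (Nat.card C.s.range : ℂ))) (h : E ⧸ C.s.range) (g : G) :
    MemLocalRing M (cf C h g) := by
  unfold cf
  refine Blocks.Local.memLocalRing_mul h0 (Blocks.Local.memLocalRing_sum fun w _ => ?_)
  split_ifs
  · exact Blocks.Local.memLocalRing_of_isIntegral
      ((Blocks.Elementary.isIntegral_char C.irr w).map (Complex.conjAe.toAlgHom.restrictScalars ℤ))
  · exact Blocks.Local.memLocalRing_zero

theorem sum_cf [Fintype E] [Fintype G] (hθ : IsIrrCharacter N θ) {χ : G → ℂ} {η : E ⧸ C.s.range → ℂ}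
    (hη : IsClassFunction (E ⧸ C.s.range) η)
    (h : ∀ x : E, χ (C.π x) = C.ψ x * η x) (k : E ⧸ C.s.range) :
    ∑ g : G, cf C k g * (χ g / χ 1) = centralChar η k := by
  classical
  have := Fintype.ofFinite (E ⧸ C.s.range)
  have hc : (Nat.card C.s.range : ℂ) ≠ 0 := by exact_mod_cast (Nat.card_pos (α := C.s.range)).ne'
  have hψ := isIrr_apply_one_ne_zero C.irr
  have h1 := h 1
  rw [map_one, QuotientGroup.mk_one] at h1
  have step1 : ∑ g : G, cf C k g * (χ g / χ 1) = (C.ψ 1 / (Nat.card C.s.range : ℂ)) *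
      ∑ w : E, if IsConj k (w : E ⧸ C.s.range) then conj (C.ψ w) * (χ (C.π w) / χ 1) else 0 := by
    unfold cf
    simp_rw [mul_assoc]
    rw [← Finset.mul_sum]
    congr 1
    simp_rw [Finset.sum_mul]
    rw [Finset.sum_comm]
    refine Finset.sum_congr rfl fun w _ => ?_
    rw [Finset.sum_eq_single (C.π w)]
    · by_cases hk : IsConj k (w : E ⧸ C.s.range)
      · rw [if_pos ⟨rfl, hk⟩, if_pos hk]
      · rw [if_neg (fun h' => hk h'.2), if_neg hk, zero_mul]
    · intro g _ hg
      rw [if_neg (fun h' => hg h'.1.symm), zero_mul]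
    · intro h'
      exact absurd (Finset.mem_univ _) h'
  have step2 : ∑ w : E, (if IsConj k (w : E ⧸ C.s.range) then conj (C.ψ w) * (χ (C.π w) / χ 1) else 0) =
      (C.ψ 1)⁻¹ * ∑ w : E, (if IsConj k (w : E ⧸ C.s.range) then η (w : E ⧸ C.s.range) / η 1 else 0) *
        (C.ψ w * conj (C.ψ w)) := by
    rw [Finset.mul_sum]
    refine Finset.sum_congr rfl fun w _ => ?_
    split_ifs
    · rw [h w, h1, mul_div_mul_comm]
      simp only [div_eq_mul_inv]
      ring
    · rw [zero_mul, mul_zero]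
  rw [step1, step2, sum_normSq C hθ (fun q => if IsConj k q then η q / η 1 else 0),
    sum_mk C (fun q => if IsConj k q then η q / η 1 else 0)]
  have step3 : ∑ q : E ⧸ C.s.range, (if IsConj k q then η q / η 1 else 0) = centralChar η k := by
    rw [← Blocks.ClassSum.finsum_conj_div hη k, finsum_mem_eq_finite_toFinset_sum _ (Set.toFinite _),
      ← Finset.sum_filter]
    refine Finset.sum_congr ?_ fun _ _ => rfl
    ext q
    simp
  rw [step3]
  field_simp

/-- same block of `G` implies same block of `H` -/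
theorem sameBlock_star {M : Ideal AlgInt} [M.IsPrime] (hθ : IsIrrCharacter N θ)
    (h0 : MemLocalRing M (C.ψ 1 / (Nat.card C.s.range : ℂ)))
    {χ χ' : G → ℂ} {η η' : E ⧸ C.s.range → ℂ} (hχ : IsClassFunction G χ) (hχ' : IsClassFunction G χ')
    (hη : IsClassFunction (E ⧸ C.s.range) η) (hη' : IsClassFunction (E ⧸ C.s.range) η')
    (h : ∀ x : E, χ (C.π x) = C.ψ x * η x) (h' : ∀ x : E, χ' (C.π x) = C.ψ x * η' x)
    (hb : SameBlock M χ χ') : SameBlock M η η' := by
  classical
  have := Fintype.ofFinite E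
  have := Fintype.ofFinite G
  intro k
  rw [← sum_cf C hθ hη h k, ← sum_cf C hθ hη' h' k]
  exact Blocks.ClassSum.memLocalIdeal_of_sameBlock hχ hχ' hb (isClassFunction_cf C k)
    (memLocalRing_cf C h0 k)


/-! ### The characters over `θ` -/

/-- the restriction of a character over `θ` -/
theorem res_eq {χ : G → ℂ} {η : E ⧸ C.s.range → ℂ} (h : ∀ x : E, χ (C.π x) = C.ψ x * η x) (n : N) :
    χ n = θ n * η 1 := by
  have h1 := h (C.s n)
  rw [C.sec, C.ext] at h1
  have h2 : ((C.s n : E) : E ⧸ C.s.range) = 1 := (QuotientGroup.eq_one_iff _).2 ⟨n, rfl⟩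
  rw [h2] at h1
  exact h1

theorem theta_one (C : Cover p N θ E) : θ 1 = C.ψ 1 := by
  have := C.ext 1
  rw [map_one] at this
  exact this.symm

theorem card_range (C : Cover p N θ E) : Nat.card C.s.range = Nat.card N :=
  (Nat.card_congr C.e.toEquiv).symm

/-- the members of a block lie over `θ` if one does -/
theorem over_of_sameBlock {M : Ideal AlgInt} [M.IsPrime] [Fintype N] (hθ : IsIrrCharacter N θ)
    (hinv : ∀ (g : G) (n : N), θ ⟨g * n * g⁻¹, hN.conj_mem n n.2 g⟩ = θ n)
    (h0 : MemLocalRing M (C.ψ 1 / (Nat.card C.s.range : ℂ)))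
    {χ χ' : IrrCharacter G} (h1 : classInner (fun n : N => (χ : G → ℂ) n) θ ≠ 0)
    (hb : SameBlock M (χ : G → ℂ) (χ' : G → ℂ)) : classInner (fun n : N => (χ' : G → ℂ) n) θ ≠ 0 := by
  classical
  have := Fintype.ofFinite G
  intro h2
  obtain ⟨η, hη⟩ := C.exists_star hθ χ h1
  have hc : (Nat.card N : ℂ) ≠ 0 := by exact_mod_cast (Nat.card_pos (α := N)).ne'
  have hθ1 := isIrr_apply_one_ne_zero hθ
  have hχ1 := isIrr_apply_one_ne_zero χ.2
  set f : G → ℂ := fun g => (C.ψ 1 / (Nat.card C.s.range : ℂ)) * conj (extendByZero N θ g) with hf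
  have hfc : IsClassFunction G f := by
    intro g x
    simp only [hf]
    congr 2
    by_cases hg : g ∈ N
    · have e1 : extendByZero N θ g = θ ⟨g, hg⟩ := Blocks.ClassSum.extendByZero_coe' N θ ⟨g, hg⟩
      have e2 : extendByZero N θ (x * g * x⁻¹) = θ ⟨x * g * x⁻¹, hN.conj_mem g hg x⟩ :=
        Blocks.ClassSum.extendByZero_coe' N θ ⟨x * g * x⁻¹, hN.conj_mem g hg x⟩
      rw [e1, e2]
      exact hinv x ⟨g, hg⟩
    · have hg' : x * g * x⁻¹ ∉ N := fun h3 => hg (by
        have := hN.conj_mem _ h3 x⁻¹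
        simpa [mul_assoc] using this)
      rw [Blocks.ClassSum.extendByZero_of_notMem' N θ hg,
        Blocks.ClassSum.extendByZero_of_notMem' N θ hg']
  have hfR : ∀ g, MemLocalRing M (f g) := by
    intro g
    refine Blocks.Local.memLocalRing_mul h0 ?_
    by_cases hg : g ∈ N
    · have e1 : extendByZero N θ g = θ ⟨g, hg⟩ := Blocks.ClassSum.extendByZero_coe' N θ ⟨g, hg⟩
      rw [e1]
      exact Blocks.Local.memLocalRing_of_isIntegral
        ((Blocks.Elementary.isIntegral_char hθ _).map (Complex.conjAe.toAlgHom.restrictScalars ℤ))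
    · rw [Blocks.ClassSum.extendByZero_of_notMem' N θ hg, map_zero]
      exact Blocks.Local.memLocalRing_zero
  have hsum : ∀ φ : G → ℂ, ∑ g : G, f g * (φ g / φ 1) =
      C.ψ 1 / φ 1 * classInner (fun n : N => φ n) θ := by
    intro φ
    have e1 : ∑ g : G, f g * (φ g / φ 1) = ∑ g ∈ Finset.univ.map ⟨fun n : N => (n : G), Subtype.val_injective⟩,
        f g * (φ g / φ 1) := by
      symm
      refine Finset.sum_subset (Finset.subset_univ _) fun x _ hx => ?_
      have hx' : x ∉ N := fun hxN => hx (by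
        rw [Finset.mem_map]
        exact ⟨⟨x, hxN⟩, Finset.mem_univ _, rfl⟩)
      simp only [hf]
      rw [Blocks.ClassSum.extendByZero_of_notMem' N θ hx', map_zero, mul_zero, zero_mul]
    rw [e1, Finset.sum_map, classInner_def, Finset.mul_sum, Finset.mul_sum]
    refine Finset.sum_congr rfl fun n _ => ?_
    simp only [Function.Embedding.coeFn_mk, hf]
    rw [Blocks.ClassSum.extendByZero_coe' N θ n, card_range C]
    simp only [div_eq_mul_inv]
    ring
  have h3 := Blocks.ClassSum.memLocalIdeal_of_sameBlock (isIrr_isClassFunction χ.2)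
    (isIrr_isClassFunction χ'.2) hb hfc hfR
  rw [hsum, hsum, h2, mul_zero, sub_zero] at h3
  have h4 : classInner (fun n : N => (χ : G → ℂ) n) θ = (η : E ⧸ C.s.range → ℂ) 1 := by
    have e1 : (fun n : N => (χ : G → ℂ) n) = (η : E ⧸ C.s.range → ℂ) 1 • θ := by
      funext n
      rw [Pi.smul_apply, smul_eq_mul, res_eq C hη n, mul_comm]
    rw [e1, classInner_smul_left, classInner_irr_self hθ, mul_one]
  have h5 : (χ : G → ℂ) 1 = C.ψ 1 * (η : E ⧸ C.s.range → ℂ) 1 := by
    have := hη 1
    rwa [map_one, QuotientGroup.mk_one] at this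
  rw [h4, h5, div_mul_eq_mul_div, div_self (by rw [← h5]; exact hχ1)] at h3
  exact Blocks.Local.not_memLocalIdeal_one h3


/-! ### Descent -/

/-- roots of unity of order prime to `p` are separated by `M` -/
theorem root_eq {M : Ideal AlgInt} (hM : IsPModular p M) {m : ℕ} (hm : ¬ p ∣ m) (hm0 : m ≠ 0) {u v : ℂ}
    (hu : u ^ m = 1) (hv : v ^ m = 1) (h : MemLocalIdeal M (u - v)) : u = v := by
  have := Blocks.Local.isPrime_of_isPModular hM
  have hint : ∀ z : ℂ, z ^ m = 1 → IsIntegral ℤ z := fun z hz =>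
    IsIntegral.of_pow (Nat.pos_of_ne_zero hm0) (by rw [hz]; exact isIntegral_one)
  have hv0 : v ≠ 0 := by
    rintro rfl
    rw [zero_pow hm0] at hv
    exact zero_ne_one hv
  set t := u * v ^ (m - 1) with ht
  have hv1 : v ^ (m - 1) * v = 1 := by
    rw [← pow_succ, Nat.sub_add_cancel (Nat.one_le_iff_ne_zero.2 hm0), hv]
  have htm : t ^ m = 1 := by
    rw [ht, mul_pow, hu, one_mul, ← pow_mul, mul_comm, pow_mul, hv, one_pow]
  have ht1 : MemLocalIdeal M (t - 1) := by
    have e : t - 1 = v ^ (m - 1) * (u - v) := by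
      rw [mul_sub, hv1, ht, mul_comm]
    rw [e]
    exact Blocks.Local.memLocalIdeal_mul_left
      (Blocks.Local.memLocalRing_pow (Blocks.Local.memLocalRing_of_isIntegral (hint v hv)) _) h
  have htt : t = 1 := by
    by_contra hne
    have h1 : ∑ i ∈ Finset.range m, t ^ i = 0 := by
      have h2 := mul_neg_geom_sum t m
      rw [htm, sub_self] at h2
      exact (mul_eq_zero.1 h2).resolve_left (sub_ne_zero.2 (Ne.symm hne))
    have h2 : ∀ i ∈ Finset.range m, MemLocalIdeal M (t ^ i - 1) := by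
      intro i _
      have h3 := Blocks.Local.memLocalIdeal_pow_sub_pow (M := M) (z := t) (w := 1)
        (Blocks.Local.memLocalRing_of_isIntegral (hint t htm)) Blocks.Local.memLocalRing_one ht1 i
      rwa [one_pow] at h3
    have h3 := Blocks.Local.memLocalIdeal_sum h2
    rw [Finset.sum_sub_distrib, h1, zero_sub, Finset.sum_const, Finset.card_range, nsmul_eq_mul, mul_one,
      Blocks.Local.memLocalIdeal_neg_iff, Blocks.Local.memLocalIdeal_natCast_iff hM] at h3
    exact hm h3
  calc u = u * (v ^ (m - 1) * v) := by rw [hv1, mul_one]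
    _ = t * v := by rw [ht]; ring
    _ = v := by rw [htt, one_mul]

theorem centralChar_central {H : Type*} [Group H] {z : H} (hz : z ∈ Subgroup.center H) (χ : H → ℂ) :
    centralChar χ z = χ z / χ 1 := by
  have : Subgroup.centralizer ({z} : Set H) = ⊤ := by
    rw [eq_top_iff]
    intro g _
    rw [Subgroup.mem_centralizer_singleton_iff]
    exact Subgroup.mem_center_iff.1 hz g
  unfold centralChar
  rw [this, Subgroup.index_top, Nat.cast_one, one_mul]

theorem scalar_pow {H : Type*} [Group H] {χ : H → ℂ} (h1 : χ 1 ≠ 0) {z : H} {w : ℂ}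
    (hw : ∀ g, χ (g * z) = w * χ g) {m : ℕ} (hm : z ^ m = 1) : w ^ m = 1 := by
  have h2 : ∀ k : ℕ, χ (z ^ k) = w ^ k * χ 1 := by
    intro k
    induction k with
    | zero => rw [pow_zero, pow_zero, one_mul]
    | succ k ih => rw [pow_succ, hw, ih, pow_succ]; ring
  have h3 := h2 m
  rw [hm] at h3
  have h4 : (w ^ m - 1) * χ 1 = 0 := by linear_combination -h3
  have h5 := (mul_eq_zero.1 h4).resolve_right h1
  linear_combination h5

theorem descend {M : Ideal AlgInt} (hM : IsPModular p M) (hθ : IsIrrCharacter N θ)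
    {χ : IrrCharacter G} {η η' : IrrCharacter (E ⧸ C.s.range)}
    (h : ∀ x : E, (χ : G → ℂ) (C.π x) = C.ψ x * (η : E ⧸ C.s.range → ℂ) x)
    (hb : SameBlock M (η : E ⧸ C.s.range → ℂ) (η' : E ⧸ C.s.range → ℂ)) :
    ∃ χ' : IrrCharacter G, ∀ x : E, (χ' : G → ℂ) (C.π x) = C.ψ x * (η' : E ⧸ C.s.range → ℂ) x := by
  classical
  have := Fintype.ofFinite E
  have := Fintype.ofFinite (E ⧸ C.s.range)
  have hψ1 := isIrr_apply_one_ne_zero C.irr
  have hη1 := isIrr_apply_one_ne_zero η.2
  have hη1' := isIrr_apply_one_ne_zero η'.2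
  set F : E → ℂ := fun x => (η' : E ⧸ C.s.range → ℂ) x * C.ψ x with hF
  have hFirr : IsIrrCharacter E F := by
    refine Cfsg.Agent.H595.Triple.isIrr_mul_inflate C.s.range C.irr (C.isIrr_res hθ)
      (β := fun x : E => (η' : E ⧸ C.s.range → ℂ) x) ?_ ?_
    · exact isIrr_comp (QuotientGroup.mk' C.s.range) (QuotientGroup.mk'_surjective _) η'.2
    · intro x hx
      rw [(QuotientGroup.eq_one_iff x).2 hx, QuotientGroup.mk_one]
  have hker : ∀ x k, C.π k = 1 → F (x * k) = F x := by
    intro x k hk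
    have hkc : k ∈ Subgroup.center E := C.ker_le hk
    have hkc' : (k : E ⧸ C.s.range) ∈ Subgroup.center (E ⧸ C.s.range) := by
      rw [Subgroup.mem_center_iff]
      intro q
      obtain ⟨y, rfl⟩ := QuotientGroup.mk_surjective q
      rw [← QuotientGroup.mk_mul, ← QuotientGroup.mk_mul, Subgroup.mem_center_iff.1 hkc y]
    obtain ⟨a, -, ha⟩ := Cfsg.Agent.CharDeep.DegreeBound.exists_omega C.irr hkc
    obtain ⟨b, -, hb1⟩ := Cfsg.Agent.CharDeep.DegreeBound.exists_omega η.2 hkc'
    obtain ⟨b', -, hb1'⟩ := Cfsg.Agent.CharDeep.DegreeBound.exists_omega η'.2 hkc'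
    have hm0 : Nat.card C.π.ker ≠ 0 := Nat.card_pos.ne'
    have hkm : k ^ Nat.card C.π.ker = 1 := by
      have h3 := pow_card_eq_one' (G := C.π.ker) (x := ⟨k, hk⟩)
      exact congrArg Subtype.val h3
    have hkm' : (k : E ⧸ C.s.range) ^ Nat.card C.π.ker = 1 := by
      rw [← QuotientGroup.mk_pow, hkm, QuotientGroup.mk_one]
    have hbb : b = b' := by
      refine root_eq hM C.ker_p hm0 (scalar_pow hη1 hb1 hkm') (scalar_pow hη1' hb1' hkm') ?_
      have h3 := hb (k : E ⧸ C.s.range)
      rw [centralChar_central hkc', centralChar_central hkc'] at h3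
      have e1 := hb1 1
      have e2 := hb1' 1
      rw [one_mul] at e1 e2
      rwa [e1, e2, mul_div_assoc, mul_div_assoc, div_self hη1, div_self hη1', mul_one, mul_one] at h3
    have hab : a * b = 1 := by
      have h3 := h k
      have h4 := h 1
      rw [hk] at h3
      rw [map_one, QuotientGroup.mk_one] at h4
      have e1 := ha 1
      have e2 := hb1 1
      rw [one_mul] at e1 e2
      rw [e1, e2, h4] at h3
      have h5 : (a * b - 1) * (C.ψ 1 * (η : E ⧸ C.s.range → ℂ) 1) = 0 := by linear_combination -h3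
      have h6 := (mul_eq_zero.1 h5).resolve_right (mul_ne_zero hψ1 hη1)
      linear_combination h6
    simp only [hF]
    rw [QuotientGroup.mk_mul, hb1', ha, ← hbb]
    linear_combination ((η' : E ⧸ C.s.range → ℂ) x * C.ψ x) * hab
  obtain ⟨χ', hχ'⟩ := Cfsg.Agent.H595.Central.descend C.π C.surj ⟨F, hFirr⟩ hker
  refine ⟨χ', fun x => ?_⟩
  rw [hχ' x]
  exact mul_comm _ _

/-- **The corresponding set is a block.** -/
theorem star_block {M : Ideal AlgInt} (hM : IsPModular p M) [Fintype N] (hθ : IsIrrCharacter N θ)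
    (hinv : ∀ (g : G) (n : N), θ ⟨g * n * g⁻¹, hN.conj_mem n n.2 g⟩ = θ n)
    (h0 : MemLocalRing M (C.ψ 1 / (Nat.card C.s.range : ℂ)))
    {B : Set (IrrCharacter G)} (hB : IsPBlock M B)
    (hover : ∃ χ ∈ B, classInner (fun n : N => (χ : G → ℂ) n) θ ≠ 0) :
    IsPBlock M (C.star B) ∧ ∀ χ ∈ B, classInner (fun n : N => (χ : G → ℂ) n) θ ≠ 0 := by
  have hMp := Blocks.Local.isPrime_of_isPModular hM
  obtain ⟨χ₀, hχ₀, h1⟩ := hover
  have hall : ∀ χ ∈ B, classInner (fun n : N => (χ : G → ℂ) n) θ ≠ 0 := fun χ hχ =>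
    over_of_sameBlock C hθ hinv h0 h1 (Blocks.Basic.isPBlock_sameBlock hB hχ₀ hχ)
  refine ⟨?_, hall⟩
  obtain ⟨η₀, hη₀⟩ := C.exists_star hθ χ₀ h1
  refine ⟨η₀, ?_⟩
  ext η
  constructor
  · rintro ⟨χ, hχ, h2⟩
    exact sameBlock_star C hθ h0 (isIrr_isClassFunction χ₀.2) (isIrr_isClassFunction χ.2)
      (isIrr_isClassFunction η₀.2) (isIrr_isClassFunction η.2) hη₀ h2
      (Blocks.Basic.isPBlock_sameBlock hB hχ₀ hχ)
  · intro hη
    obtain ⟨χ, hχ⟩ := descend C hM hθ hη₀ hη
    exact ⟨χ, Blocks.Basic.isPBlock_mem_of_sameBlock hB hχ₀ (sameBlock_of_star C hM hθ hη₀ hχ hη), hχ⟩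


/-! ### Defect classes -/

theorem blockCoeff_eq {X : Type*} [Group X] [Finite X] (B : Set (IrrCharacter X)) (g : X) :
    blockCoeff B g = (Nat.card X : ℂ)⁻¹ * conj (fS B g) := by
  have hfin := finite_irr (G := X)
  unfold blockCoeff fS
  congr 1
  have h1 := (starRingEnd ℂ).toAddMonoidHom.map_finsum_mem
    (fun χ : IrrCharacter X => (χ : X → ℂ) 1 * (χ : X → ℂ) g) (Set.toFinite B)
  refine Eq.trans ?_ h1.symm
  refine finsum_mem_congr rfl fun χ _ => ?_
  change _ = conj ((χ : X → ℂ) 1 * (χ : X → ℂ) g)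
  rw [map_mul]
  obtain ⟨n, -, hn⟩ := Blocks.Basic.irr_one_eq_natCast χ.2
  rw [hn, Complex.conj_natCast]

theorem card_E : Nat.card E = Nat.card G * Nat.card C.π.ker := by
  have h1 := Subgroup.card_mul_index C.π.ker
  rw [Subgroup.index_ker, MonoidHom.range_eq_top.2 C.surj, Subgroup.card_top] at h1
  rw [← h1, mul_comm]

theorem card_E' : Nat.card E = Nat.card C.s.range * Nat.card (E ⧸ C.s.range) := by
  have h1 := Subgroup.card_mul_index C.s.range
  exact h1.symm

theorem coeff_star [Fintype N] (hθ : IsIrrCharacter N θ) {B : Set (IrrCharacter G)}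
    (hX : ∀ χ ∈ B, classInner (fun n : N => (χ : G → ℂ) n) θ ≠ 0) (x : E) :
    blockCoeff B (C.π x) = (Nat.card C.π.ker : ℂ) * (C.ψ 1 / (Nat.card C.s.range : ℂ)) * conj (C.ψ x) *
      blockCoeff (C.star B) (x : E ⧸ C.s.range) := by
  have h1 := C.fS_star hθ hX x
  have hG : (Nat.card G : ℂ) ≠ 0 := by exact_mod_cast (Nat.card_pos (α := G)).ne'
  have hK : (Nat.card C.π.ker : ℂ) ≠ 0 := by exact_mod_cast (Nat.card_pos (α := C.π.ker)).ne'
  have hL : (Nat.card C.s.range : ℂ) ≠ 0 := by exact_mod_cast (Nat.card_pos (α := C.s.range)).ne'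
  have hH : (Nat.card (E ⧸ C.s.range) : ℂ) ≠ 0 := by
    exact_mod_cast (Nat.card_pos (α := E ⧸ C.s.range)).ne'
  have h2 : (Nat.card G : ℂ) * (Nat.card C.π.ker : ℂ) = (Nat.card C.s.range : ℂ) * (Nat.card (E ⧸ C.s.range) : ℂ) := by
    exact_mod_cast (card_E C).symm.trans (card_E' C)
  obtain ⟨n, -, hn⟩ := Blocks.Basic.irr_one_eq_natCast C.irr
  rw [blockCoeff_eq, blockCoeff_eq, ← h1, map_mul, map_mul]
  have h3 : conj (C.ψ 1) = C.ψ 1 := by rw [hn, Complex.conj_natCast]
  rw [h3]
  have h4 : (Nat.card G : ℂ)⁻¹ = (Nat.card C.π.ker : ℂ) * (Nat.card C.s.range : ℂ)⁻¹ *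
      (Nat.card (E ⧸ C.s.range) : ℂ)⁻¹ := by
    field_simp
    linear_combination -h2
  rw [h4]
  simp only [div_eq_mul_inv]
  ring

theorem centralizer_inv {X : Type*} [Group X] (x : X) :
    Subgroup.centralizer ({x⁻¹} : Set X) = Subgroup.centralizer ({x} : Set X) := by
  ext y
  rw [Subgroup.mem_centralizer_singleton_iff, Subgroup.mem_centralizer_singleton_iff]
  constructor
  · intro h
    have := congrArg (fun z => x * z * x) h
    exact (by simpa [mul_assoc] using this : x * y = y * x).symm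
  · intro h
    have := congrArg (fun z => x⁻¹ * z * x⁻¹) h
    exact (by simpa [mul_assoc] using this : x⁻¹ * y = y * x⁻¹).symm

theorem T_inv (x : E) : T C x⁻¹ = T C x := by
  unfold T
  rw [map_inv, centralizer_inv]

/-- **Defect classes correspond**, and the `p`-part of `|T : C_E(x)|` is that of `ψ(1)`. -/
theorem defectClass_star {M : Ideal AlgInt} (hM : IsPModular p M) [Fintype N] (hθ : IsIrrCharacter N θ)
    (h0 : MemLocalRing M (C.ψ 1 / (Nat.card C.s.range : ℂ)))
    {B : Set (IrrCharacter G)} (hX : ∀ χ ∈ B, classInner (fun n : N => (χ : G → ℂ) n) θ ≠ 0)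
    (hBs : IsPBlock M (C.star B)) (hne : B.Nonempty) {x : E} (hd : IsDefectClass M B (C.π x)) :
    IsDefectClass M (C.star B) (x : E ⧸ C.s.range) ∧
      ((Subgroup.centralizer ({x} : Set E)).relIndex (T C x)).factorization p =
        (charDegree C.ψ).factorization p := by
  have hMp := Blocks.Local.isPrime_of_isPModular hM
  obtain ⟨hd1, hd2, hd3⟩ := hd
  have hintc : IsIntegral ℤ (conj (C.ψ x)) :=
    (Blocks.Elementary.isIntegral_char C.irr x).map (Complex.conjAe.toAlgHom.restrictScalars ℤ)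
  have hR := Blocks.Osima.memLocalRing_blockCoeff hM hBs (x : E ⧸ C.s.range)
  rw [coeff_star C hθ hX x] at hd2
  have hψc : ¬ MemLocalIdeal M (conj (C.ψ x)) := by
    intro h
    apply hd2
    refine Blocks.Local.memLocalIdeal_mul_right (Blocks.Local.memLocalIdeal_mul_left ?_ h) hR
    exact Blocks.Local.memLocalRing_mul (Blocks.Local.memLocalRing_natCast _) h0
  refine ⟨⟨hR, ?_, ?_⟩, ?_⟩
  · intro h
    apply hd2
    refine Blocks.Local.memLocalIdeal_mul_left ?_ h
    exact Blocks.Local.memLocalRing_mul (Blocks.Local.memLocalRing_mul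
      (Blocks.Local.memLocalRing_natCast _) h0) (Blocks.Local.memLocalRing_of_isIntegral hintc)
  · rintro η ⟨χ, hχ, h1⟩ h
    apply hd3 χ hχ
    rw [cc_eq C h1 x]
    exact Blocks.Local.memLocalIdeal_mul_left (memLocalRing_uf C hM hθ x) h
  · obtain ⟨χ, hχ⟩ := hne
    obtain ⟨η, h1⟩ := C.exists_star hθ χ (hX χ hχ)
    set c := (Subgroup.centralizer ({x} : Set E)).relIndex (T C x) with hc
    have hc0 : c ≠ 0 := Subgroup.index_ne_zero_of_finite (H := (Subgroup.centralizer ({x} : Set E)).subgroupOf (T C x))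
    have hd0 : charDegree C.ψ ≠ 0 := (Blocks.Basic.charDegree_pos C.irr).ne'
    have hψ1 : C.ψ 1 = (charDegree C.ψ : ℂ) := Blocks.Basic.irr_one_eq_charDegree C.irr
    have hu := hd3 χ hχ
    rw [cc_eq C h1 x] at hu
    have hηR := Blocks.Elementary.memLocalRing_centralChar (M := M) η.2 (x : E ⧸ C.s.range)
    have hinvA := Blocks.Local.memLocalRing_inv_natCast hM (not_dvd_relIndexA C x)
    rcases lt_trichotomy (c.factorization p) ((charDegree C.ψ).factorization p) with hlt | heq | hgt
    · exfalso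
      apply hψc
      have h2 := Blocks.DefectCard.memLocalIdeal_natDiv hM hc0 hlt
      have h3 := memLocalRing_T (M := M) C hθ x⁻¹
      rw [T_inv, centralizer_inv, ← hc] at h3
      have h4 : C.ψ x⁻¹ = conj (C.ψ x) := isCharacter_apply_inv (isIrr_isCharacter C.irr) x
      rw [h4, hψ1] at h3
      have h5 : conj (C.ψ x) = ((charDegree C.ψ : ℂ) / (c : ℂ)) * ((c : ℂ) * conj (C.ψ x) / (charDegree C.ψ : ℂ)) := by
        have e1 : (c : ℂ) ≠ 0 := by exact_mod_cast hc0
        have e2 : (charDegree C.ψ : ℂ) ≠ 0 := by exact_mod_cast hd0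
        field_simp
      rw [h5]
      exact Blocks.Local.memLocalIdeal_mul_right h2 h3
    · exact heq
    · exfalso
      apply hu
      refine Blocks.Local.memLocalIdeal_mul_right ?_ hηR
      unfold uf
      refine Blocks.Local.memLocalIdeal_mul_left hinvA ?_
      have h2 := Blocks.DefectCard.memLocalIdeal_natDiv hM hd0 hgt
      have h3 : (c : ℂ) * C.ψ x / C.ψ 1 = ((c : ℂ) / (charDegree C.ψ : ℂ)) * C.ψ x := by
        rw [hψ1]
        ring
      rw [← hc, h3]
      exact Blocks.Local.memLocalIdeal_mul_right h2 (Blocks.Elementary.memLocalRing_char C.irr x)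

/-- the `p`-parts of the centralizers agree -/
theorem factorization_centralizer [Fact p.Prime] {x : E}
    (h0 : (charDegree C.ψ).factorization p = (Nat.card C.s.range).factorization p)
    (h : ((Subgroup.centralizer ({x} : Set E)).relIndex (T C x)).factorization p =
        (charDegree C.ψ).factorization p) :
    (Nat.card (Subgroup.centralizer ({(x : E ⧸ C.s.range)} : Set (E ⧸ C.s.range)))).factorization p =
      (Nat.card (Subgroup.centralizer ({C.π x} : Set G))).factorization p := by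
  have hp : p.Prime := Fact.out
  set c := (Subgroup.centralizer ({x} : Set E)).relIndex (T C x) with hc
  set a := (Subgroup.centralizer ({x} : Set E)).relIndex (A C x) with ha
  set cH := Nat.card (Subgroup.centralizer ({(x : E ⧸ C.s.range)} : Set (E ⧸ C.s.range))) with hcH
  set cG := Nat.card (Subgroup.centralizer ({C.π x} : Set G)) with hcG
  have e1 := index_mul C x
  have e2 := index_mulA C x
  rw [index_T] at e1
  rw [index_A] at e2
  have e3 := Subgroup.card_mul_index (Subgroup.centralizer ({(x : E ⧸ C.s.range)} : Set (E ⧸ C.s.range)))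
  have e4 := Subgroup.card_mul_index (Subgroup.centralizer ({C.π x} : Set G))
  have e5 := card_E C
  have e6 := card_E' C
  have hc0 : c ≠ 0 := Subgroup.index_ne_zero_of_finite (H := (Subgroup.centralizer ({x} : Set E)).subgroupOf (T C x))
  have ha0 : a ≠ 0 := relIndexA_ne_zero C x
  have hcH0 : cH ≠ 0 := Nat.card_pos.ne'
  have hcG0 : cG ≠ 0 := Nat.card_pos.ne'
  have hk0 : Nat.card C.π.ker ≠ 0 := Nat.card_pos.ne'
  have hL0 : Nat.card C.s.range ≠ 0 := Nat.card_pos.ne'
  have hE0 : Nat.card E ≠ 0 := Nat.card_pos.ne'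
  have key : Nat.card C.π.ker * c * cG = Nat.card C.s.range * a * cH := by
    set iH := (Subgroup.centralizer ({(x : E ⧸ C.s.range)} : Set (E ⧸ C.s.range))).index with hiH
    set iG := (Subgroup.centralizer ({C.π x} : Set G)).index with hiG
    have hiH0 : iH ≠ 0 := Subgroup.index_ne_zero_of_finite
    have h1 : iH * c = iG * a := e1.trans e2.symm
    refine Nat.eq_of_mul_eq_mul_left (Nat.pos_of_ne_zero (mul_ne_zero hE0 hiH0)) ?_
    calc Nat.card E * iH * (Nat.card C.π.ker * c * cG)
        = Nat.card E * (iH * c) * Nat.card C.π.ker * cG := by ring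
      _ = Nat.card E * (iG * a) * Nat.card C.π.ker * cG := by rw [h1]
      _ = Nat.card E * a * ((cG * iG) * Nat.card C.π.ker) := by ring
      _ = Nat.card E * a * Nat.card E := by rw [e4, ← e5]
      _ = Nat.card E * a * (Nat.card C.s.range * Nat.card (E ⧸ C.s.range)) := by rw [← e6]
      _ = Nat.card E * a * (Nat.card C.s.range * (cH * iH)) := by rw [e3]
      _ = Nat.card E * iH * (Nat.card C.s.range * a * cH) := by ring
  have h1 := congrArg (fun n => n.factorization p) key
  beta_reduce at h1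
  rw [Nat.factorization_mul (mul_ne_zero hk0 hc0) hcG0, Nat.factorization_mul hk0 hc0,
    Nat.factorization_mul (mul_ne_zero hL0 ha0) hcH0, Nat.factorization_mul hL0 ha0] at h1
  simp only [Finsupp.add_apply] at h1
  rw [Nat.factorization_eq_zero_of_not_dvd C.ker_p,
    Nat.factorization_eq_zero_of_not_dvd (not_dvd_relIndexA C x), h, h0] at h1
  omega

/-! ### Defect groups -/

theorem card_map_of_disjoint {X Y : Type*} [Group X] [Group Y] (f : X →* Y) (R : Subgroup X)
    (h : ∀ r ∈ R, f r = 1 → r = 1) : Nat.card (R.map f) = Nat.card R := by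
  have h1 : Function.Injective (f.comp R.subtype) := by
    rw [injective_iff_map_eq_one]
    intro a ha
    exact Subtype.ext (h a a.2 ha)
  have h2 : (f.comp R.subtype).range = R.map f := by
    rw [MonoidHom.range_comp, Subgroup.range_subtype]
  rw [← h2]
  exact (Nat.card_congr (MonoidHom.ofInjective h1).toEquiv).symm

theorem card_isSylowCentralizer {X : Type*} [Group X] [Finite X] [Fact p.Prime] {g : X} {D : Subgroup X}
    (h : Blocks.Basic.IsSylowCentralizer p g D) :
    Nat.card D = p ^ (Nat.card (Subgroup.centralizer ({g} : Set X))).factorization p := by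
  obtain ⟨P, rfl⟩ := h
  rw [card_map_of_disjoint _ _ (fun r _ h => Subtype.ext h)]
  exact P.card_eq_multiplicity

theorem eq_one_of_pow [Fact p.Prime] {r : E} {k : ℕ} (h1 : r ^ p ^ k = 1) (h2 : r ∈ C.π.ker) : r = 1 := by
  have hp : p.Prime := Fact.out
  have h3 : r ^ Nat.card C.π.ker = 1 := by
    have h4 : (⟨r, h2⟩ : C.π.ker) ^ Nat.card C.π.ker = 1 := pow_card_eq_one'
    exact congrArg Subtype.val h4
  have h5 : (p ^ k).gcd (Nat.card C.π.ker) = 1 :=
    Nat.Coprime.pow_left k ((Nat.Prime.coprime_iff_not_dvd hp).2 C.ker_p)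
  have h6 := pow_gcd_eq_one.2 ⟨h1, h3⟩
  rwa [h5, pow_one] at h6

theorem card_comap (D : Subgroup G) : Nat.card (D.comap C.π) = Nat.card D * Nat.card C.π.ker := by
  have h1 := Subgroup.card_mul_index (D.comap C.π)
  rw [Subgroup.index_comap_of_surjective _ C.surj, card_E C, ← Subgroup.card_mul_index D] at h1
  have h2 : 0 < D.index := Nat.pos_of_ne_zero Subgroup.index_ne_zero_of_finite
  refine Nat.eq_of_mul_eq_mul_right h2 ?_
  rw [h1]
  ring

/-- lifting a `p`-subgroup of `C(π x)` to a `p`-subgroup of `C(x)` -/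
theorem exists_lift [Fact p.Prime] {x : E} {D : Subgroup G} (hD : IsPGroup p D)
    (hDx : D ≤ Subgroup.centralizer ({C.π x} : Set G)) :
    ∃ R : Subgroup E, (∀ r ∈ R, C.π r = 1 → r = 1) ∧ IsPGroup p R ∧ R.map C.π = D ∧
      R ≤ Subgroup.centralizer ({x} : Set E) := by
  have hp : p.Prime := Fact.out
  set P := D.comap C.π with hP
  obtain ⟨S⟩ : Nonempty (Sylow p P) := inferInstance
  have hSR : IsPGroup p ((S : Subgroup P).map P.subtype) := S.2.map _
  have hpow : ∀ r : E, r ∈ (S : Subgroup P).map P.subtype → ∃ k : ℕ, r ^ p ^ k = 1 := by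
    intro r hr
    obtain ⟨k, hk⟩ := hSR ⟨r, hr⟩
    exact ⟨k, congrArg Subtype.val hk⟩
  have hcop : ∀ r : E, r ∈ (S : Subgroup P).map P.subtype → C.π r = 1 → r = 1 := by
    intro r hr h1
    obtain ⟨k, hk⟩ := hpow r hr
    exact eq_one_of_pow C hk h1
  refine ⟨(S : Subgroup P).map P.subtype, hcop, hSR, ?_, ?_⟩
  · have hle : ((S : Subgroup P).map P.subtype).map C.π ≤ D := by
      rintro _ ⟨_, ⟨y, hy, rfl⟩, rfl⟩
      exact y.2
    refine Subgroup.eq_of_le_of_card_ge hle ?_
    rw [card_map_of_disjoint _ _ hcop, card_map_of_disjoint _ _ (fun r _ h => Subtype.ext h),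
      S.card_eq_multiplicity]
    obtain ⟨n, hn⟩ := IsPGroup.iff_card.1 hD
    rw [hP, card_comap, Nat.factorization_mul Nat.card_pos.ne' Nat.card_pos.ne', Finsupp.add_apply,
      Nat.factorization_eq_zero_of_not_dvd C.ker_p, hn, hp.factorization_pow, Finsupp.single_eq_same,
      add_zero]
  · intro r hr
    rw [Subgroup.mem_centralizer_singleton_iff]
    have hrD : C.π r ∈ D := by
      obtain ⟨y, hy, rfl⟩ := hr
      exact y.2
    have h1 := Subgroup.mem_centralizer_singleton_iff.1 (hDx hrD)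
    set c := r * x * r⁻¹ * x⁻¹ with hc
    have hcK : c ∈ C.π.ker := by
      rw [MonoidHom.mem_ker, hc, map_mul, map_mul, map_mul, map_inv, map_inv, h1]
      group
    have hcc := Subgroup.mem_center_iff.1 (C.ker_le hcK)
    have h2 : r * x = c * (x * r) := by rw [hc]; group
    have h3 : ∀ m : ℕ, r ^ m * x = c ^ m * (x * r ^ m) := by
      intro m
      induction m with
      | zero => simp
      | succ m ih =>
        have e1 : r * c ^ m = c ^ m * r := (Commute.pow_right (show Commute r c from hcc r) m).eq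
        calc r ^ (m + 1) * x = r * (r ^ m * x) := by rw [pow_succ', mul_assoc]
          _ = (r * c ^ m) * (x * r ^ m) := by rw [ih]; group
          _ = c ^ m * (r * x) * r ^ m := by rw [e1]; group
          _ = c ^ m * (c * (x * r)) * r ^ m := by rw [h2]
          _ = c ^ (m + 1) * (x * r ^ (m + 1)) := by rw [pow_succ, pow_succ' r m]; group
    obtain ⟨k, hk⟩ := hpow r hr
    have h4 := h3 (p ^ k)
    rw [hk, one_mul, mul_one] at h4
    have h5 : c ^ p ^ k = 1 := (mul_eq_right.1 h4.symm)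
    have h6 := eq_one_of_pow C h5 hcK
    rw [h2, h6, one_mul]

/-- **Defect groups** of the block and of its correspondent: here for a defect group meeting `N` trivially. -/
theorem exists_defect [Fact p.Prime] {M : Ideal AlgInt} (hM : IsPModular p M) [Fintype N]
    (hθ : IsIrrCharacter N θ) (h0 : MemLocalRing M (C.ψ 1 / (Nat.card C.s.range : ℂ)))
    (h0' : (charDegree C.ψ).factorization p = (Nat.card C.s.range).factorization p)
    {B : Set (IrrCharacter G)} (hX : ∀ χ ∈ B, classInner (fun n : N => (χ : G → ℂ) n) θ ≠ 0)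
    (hBs : IsPBlock M (C.star B)) (hne : B.Nonempty) {D : Subgroup G} (hD : IsDefectGroup p M B D)
    (hDN : D ⊓ N = ⊥) :
    ∃ R : Subgroup E, R.map C.π = D ∧ (∀ r ∈ R, C.π r = 1 → r = 1) ∧
      IsDefectGroup p M (C.star B) (R.map (QuotientGroup.mk' C.s.range)) ∧
      Nat.card (R.map (QuotientGroup.mk' C.s.range)) = Nat.card D := by
  obtain ⟨g, hg, hDg⟩ := Blocks.Basic.isDefectGroup_iff.1 hD
  obtain ⟨x, rfl⟩ := C.surj g
  have hDp := Blocks.Basic.isPGroup_of_isSylowCentralizer hDg
  obtain ⟨R, hR1, hR2, hR3, hR4⟩ := exists_lift C hDp (Blocks.Basic.le_centralizer_of_isSylowCentralizer hDg)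
  obtain ⟨hd1, hd2⟩ := defectClass_star C hM hθ h0 hX hBs hne hg
  have hcard := factorization_centralizer C h0' hd2
  have hinj : ∀ r ∈ R, QuotientGroup.mk' C.s.range r = 1 → r = 1 := by
    intro r hr h1
    obtain ⟨n, hn⟩ := (QuotientGroup.eq_one_iff r).1 h1
    have h2 : C.π r ∈ D ⊓ N := by
      refine ⟨hR3 ▸ Subgroup.mem_map_of_mem _ hr, ?_⟩
      rw [← hn, C.sec]
      exact n.2
    rw [hDN, Subgroup.mem_bot] at h2
    exact hR1 r hr h2
  have hc1 : Nat.card (R.map (QuotientGroup.mk' C.s.range)) = Nat.card R := card_map_of_disjoint _ _ hinj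
  have hc2 : Nat.card D = Nat.card R := by
    rw [← hR3]
    exact card_map_of_disjoint _ _ hR1
  have hle : R.map (QuotientGroup.mk' C.s.range) ≤
      Subgroup.centralizer ({(x : E ⧸ C.s.range)} : Set (E ⧸ C.s.range)) := by
    rintro _ ⟨r, hr, rfl⟩
    have h1 := Subgroup.mem_centralizer_singleton_iff.1 (hR4 hr)
    rw [Subgroup.mem_centralizer_singleton_iff]
    exact congrArg (QuotientGroup.mk' C.s.range) h1
  obtain ⟨D', hD'1, hD'2⟩ := Blocks.Basic.exists_isSylowCentralizer (p := p) (hR2.map _) hle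
  have hD'3 := card_isSylowCentralizer hD'1
  rw [hcard, ← card_isSylowCentralizer hDg] at hD'3
  have heq : R.map (QuotientGroup.mk' C.s.range) = D' := by
    refine Subgroup.eq_of_le_of_card_ge hD'2 ?_
    rw [hD'3, hc1, hc2]
  refine ⟨R, hR3, hR1, ?_, hc1.trans hc2.symm⟩
  rw [heq]
  exact Blocks.Basic.isDefectGroup_iff.2 ⟨_, hd1, hD'1⟩

/-! ### Heights and the quotient -/

theorem le_of_height {X : Type*} [Group X] {B : Set (IrrCharacter X)}
    (h : ∀ η ∈ B, blockHeight p B (η : X → ℂ) = 0) {η η' : IrrCharacter X} (hη : η ∈ B) (hη' : η' ∈ B) :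
    (charDegree (η : X → ℂ)).factorization p ≤ (charDegree (η' : X → ℂ)).factorization p :=
  (Nat.sub_eq_zero_iff_le.1 (h η hη)).trans (Nat.sInf_le ⟨η', hη', rfl⟩)

theorem height_of_le {X : Type*} [Group X] {B : Set (IrrCharacter X)}
    (h : ∀ η ∈ B, ∀ η' ∈ B, (charDegree (η : X → ℂ)).factorization p ≤
      (charDegree (η' : X → ℂ)).factorization p) (η : IrrCharacter X) (hη : η ∈ B) :
    blockHeight p B (η : X → ℂ) = 0 := by
  refine Nat.sub_eq_zero_iff_le.2 (le_csInf ⟨_, η, hη, rfl⟩ ?_)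
  rintro _ ⟨η', hη', rfl⟩
  exact h η hη η' hη'

theorem charDegree_mul {χ : IrrCharacter G} {η : IrrCharacter (E ⧸ C.s.range)}
    (h : ∀ x : E, (χ : G → ℂ) (C.π x) = C.ψ x * (η : E ⧸ C.s.range → ℂ) x) :
    charDegree (χ : G → ℂ) = charDegree C.ψ * charDegree (η : E ⧸ C.s.range → ℂ) := by
  have h1 := h 1
  rw [map_one, QuotientGroup.mk_one, Blocks.Basic.irr_one_eq_charDegree χ.2,
    Blocks.Basic.irr_one_eq_charDegree C.irr, Blocks.Basic.irr_one_eq_charDegree η.2] at h1
  exact_mod_cast h1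

/-- heights zero upstairs give heights zero downstairs -/
theorem height_of_star [Fintype N] (hθ : IsIrrCharacter N θ) {B : Set (IrrCharacter G)}
    (hX : ∀ χ ∈ B, classInner (fun n : N => (χ : G → ℂ) n) θ ≠ 0)
    (h : ∀ η ∈ C.star B, blockHeight p (C.star B) (η : E ⧸ C.s.range → ℂ) = 0)
    (χ : IrrCharacter G) (hχ : χ ∈ B) : blockHeight p B (χ : G → ℂ) = 0 := by
  refine height_of_le (fun χ hχ χ' hχ' => ?_) χ hχ
  obtain ⟨η, h1⟩ := C.exists_star hθ χ (hX χ hχ)
  obtain ⟨η', h1'⟩ := C.exists_star hθ χ' (hX χ' hχ')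
  have h2 := le_of_height h (η := η) (η' := η') ⟨χ, hχ, h1⟩ ⟨χ', hχ', h1'⟩
  have h3 := (Blocks.Basic.charDegree_pos C.irr).ne'
  rw [charDegree_mul C h1, charDegree_mul C h1',
    Nat.factorization_mul h3 (Blocks.Basic.charDegree_pos η.2).ne',
    Nat.factorization_mul h3 (Blocks.Basic.charDegree_pos η'.2).ne', Finsupp.add_apply, Finsupp.add_apply]
  omega

theorem Z_normal : C.Z.Normal :=
  ⟨fun z hz g => by rwa [Subgroup.mem_center_iff.1 (C.Z_le_center hz) g, mul_inv_cancel_right]⟩

theorem Z_comap : C.Z.comap (QuotientGroup.mk' C.s.range) = N.comap C.π := by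
  ext x
  constructor
  · rintro ⟨z, hz, hzx⟩
    obtain ⟨n, hn⟩ := QuotientGroup.eq.1 hzx
    have h3 : C.π x = n := by
      have h4 := congrArg C.π hn
      rw [C.sec, map_mul, map_inv, MonoidHom.mem_ker.1 hz, inv_one, one_mul] at h4
      exact h4.symm
    rw [Subgroup.mem_comap, h3]
    exact n.2
  · intro h
    exact C.mem_Z_of_mem h

theorem quotient_iso [C.Z.Normal] : Nonempty ((E ⧸ C.s.range) ⧸ C.Z ≃* G ⧸ N) := by
  let f : E →* (E ⧸ C.s.range) ⧸ C.Z := (QuotientGroup.mk' C.Z).comp (QuotientGroup.mk' C.s.range)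
  let g : E →* G ⧸ N := (QuotientGroup.mk' N).comp C.π
  have hf : Function.Surjective f :=
    (QuotientGroup.mk'_surjective _).comp (QuotientGroup.mk'_surjective _)
  have hg : Function.Surjective g := (QuotientGroup.mk'_surjective _).comp C.surj
  have hk : f.ker = g.ker := by
    have h1 : f.ker = C.Z.comap (QuotientGroup.mk' C.s.range) := by
      rw [← MonoidHom.comap_ker, QuotientGroup.ker_mk']
    have h2 : g.ker = N.comap C.π := by
      rw [← MonoidHom.comap_ker, QuotientGroup.ker_mk']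
    rw [h1, h2, Z_comap]
  exact ⟨((QuotientGroup.quotientKerEquivOfSurjective f hf).symm.trans
    (QuotientGroup.quotientMulEquivOfEq hk)).trans (QuotientGroup.quotientKerEquivOfSurjective g hg)⟩

end cov

end Cfsg.Agent.H658.KKL.FongTwo

namespace Cfsg.Agent.H658.KKL

open Cfsg.Agent Cfsg.Agent.Characters.Core Cfsg.Agent.H613.KKL FongTwo

universe u

/-- **B4** (hub helper613, S4546): the reduction at a normal subgroup `N` carrying an invariant character of
2-defect zero covered by the block, `D ∩ N = 1`. -/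
theorem B4 {G : Type u} [Group G] [Finite G] {M : Ideal AlgInt} (hM : IsPModular 2 M) {B : Set (IrrCharacter G)}
    (hB : IsPBlock M B) {D : Subgroup G} (hD : IsDefectGroup 2 M B D) (h8 : E8 D)
    (N : Subgroup G) [hN : N.Normal] (ξ : IrrCharacter ↥N) (hξ : Inv N ξ)
    (h0 : (charDegree (ξ : ↥N → ℂ)).factorization 2 = (Nat.card ↥N).factorization 2) (hcov : Cov N {ξ} B)
    (hDN : D ⊓ N = ⊥) :
    ∃ (H : Type u) (_ : Group H) (_ : Finite H) (Z : Subgroup H) (_ : Z.Normal), Z ≤ Subgroup.center H ∧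
        Nonempty (H ⧸ Z ≃* G ⧸ N) ∧ (HZ H → ∀ χ ∈ B, blockHeight 2 B (χ : G → ℂ) = 0) := by
  classical
  haveI : Fact (Nat.Prime 2) := ⟨Nat.prime_two⟩
  letI := Fintype.ofFinite ↥N
  obtain ⟨E, i1, i2, ⟨C⟩⟩ := Cfsg.Agent.H289.KKL.B4cover N ξ hξ h0
  have hθ : IsIrrCharacter N (ξ : N → ℂ) := ξ.2
  have hinv : ∀ (g : G) (n : N), (ξ : N → ℂ) ⟨g * n * g⁻¹, hN.conj_mem n n.2 g⟩ = (ξ : N → ℂ) n :=
    fun g n => hξ g n _ rfl
  have hψ : C.ψ 1 = (charDegree (ξ : N → ℂ) : ℂ) := by
    rw [← theta_one C]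
    exact Blocks.Basic.irr_one_eq_charDegree ξ.2
  have hdeg : charDegree C.ψ = charDegree (ξ : N → ℂ) := by
    have h1 := Blocks.Basic.irr_one_eq_charDegree C.irr
    rw [hψ] at h1
    exact_mod_cast h1.symm
  have h0' : (charDegree C.ψ).factorization 2 = (Nat.card C.s.range).factorization 2 := by
    rw [hdeg, card_range C, h0]
  have h0'' : MemLocalRing M (C.ψ 1 / (Nat.card C.s.range : ℂ)) := by
    rw [Blocks.Basic.irr_one_eq_charDegree C.irr]
    exact Blocks.DefectCard.memLocalRing_natDiv hM Nat.card_pos.ne' h0'.ge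
  obtain ⟨χ₀, hχ₀, θ, hθ', hne⟩ := hcov
  rw [Set.mem_singleton_iff] at hθ'
  subst hθ'
  obtain ⟨hBs, hX⟩ := star_block C hM hθ hinv h0'' hB ⟨χ₀, hχ₀, hne⟩
  obtain ⟨R, hR1, hR2, hR3, hR4⟩ := exists_defect C hM hθ h0'' h0' hX hBs ⟨χ₀, hχ₀⟩ hD hDN
  have hZ := Z_normal C
  refine ⟨E ⧸ C.s.range, inferInstance, inferInstance, C.Z, hZ, C.Z_le_center, quotient_iso C, ?_⟩
  intro hHZ
  refine height_of_star C hθ hX (hHZ M hM (C.star B) hBs _ hR3 ⟨hR4.trans h8.card, ?_⟩)
  rintro _ ⟨r, hr, rfl⟩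
  have h1 : r * r = 1 := by
    refine hR2 _ (mul_mem hr hr) ?_
    rw [map_mul]
    exact h8.inv _ (hR1 ▸ Subgroup.mem_map_of_mem _ hr)
  rw [← map_mul, h1, map_one]

end Cfsg.Agent.H658.KKL
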